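import Cfsg.Agent.H0.TC
set_option maxRecDepth 100000
namespace H0.TCWD40
open H0
noncomputable def r0 : TC.WTr := (.node (.node (.node (.node (.node (.node (.leaf [1] 0 0 false) (.leaf [4, 5, 4, 8] 13 1 true)) (.node (.leaf [0, 5, 8, 0] 26 3 true) (.leaf [8] 8 0 false))) (.node (.node (.leaf [3, 0, 2, 4, 1] 19 2 true) (.leaf [5] 5 1 false)) (.leaf [4] 4 0 false))) (.node (.node (.node (.leaf [1] 0 0 false) (.leaf [5] 5 1 false)) (.node (.leaf [3, 6] 20 0 false) (.leaf [8] 8 0 false))) (.node (.node (.leaf [3] 2 0 false) (.leaf [6, 4, 5] 12 3 false)) (.leaf [6, 8, 4, 6] 13 2 false)))) (.node (.node (.node (.node (.leaf [4, 1, 7, 8] 25 2 true) (.leaf [6] 5 0 false)) (.node (.leaf [2] 2 1 false) (.leaf [5, 4, 5, 4] 13 0 true))) (.node (.node (.leaf [0] 0 1 false) (.leaf [7] 7 0 false)) (.leaf [2, 7, 3] 24 3 false))) (.node (.node (.node (.leaf [0] 0 1 false) (.leaf [1, 3, 1, 8] 26 4 false)) (.leaf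 [2] 2 1 false)) (.node (.node (.leaf [4, 1, 1, 3, 0] 19 5 true) (.leaf [7] 7 0 false)) (.leaf [6] 5 0 false))))) (.node (.node (.node (.node (.node (.leaf [0, 0, 0] 17 0 false) (.leaf [6] 5 0 false)) (.node (.leaf [3] 2 0 false) (.leaf [7, 0, 4, 1] 25 3 false))) (.node (.node (.leaf [0] 0 1 false) (.leaf [5] 5 1 false)) (.leaf [1, 8, 7, 0] 25 1 false))) (.node (.node (.node (.leaf [1] 0 0 false) (.leaf [6, 6] 11 0 true)) (.node (.leaf [0, 2, 4, 1, 1] 19 3 true) (.leaf [8] 8 0 false))) (.node (.node (.leaf [5, 2] 20 2 true) (.leaf [8, 7, 8] 9 0 false)) (.leaf [8, 5, 4, 5] 13 4 true)))) (.node (.node (.node (.node (.leaf [5, 8, 0, 2] 26 4 true) (.leaf [6] 5 0 false)) (.node (.leaf [1, 8, 6, 1] 26 1 false) (.leaf [0, 2, 0, 5] 26 1 true))) (.node (.node (.leaf [0] 0 1 false) (.leaf [3, 4, 2] 24 1 false)) (.leaf [3, 1, 2, 0, 0] 19 5 false))) (.node (.node (.node (.leaf [2, 0, 0, 4, 3] 19 1 false)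 (.leaf [5] 5 1 false)) (.leaf [2] 2 1 false)) (.node (.node (.leaf [2, 5] 20 1 true) (.leaf [7] 7 0 false)) (.leaf [2, 2] 20 0 true))))))
noncomputable def tS : Tr := (.leaf (nat_lit 0xfe2672c64feb5d871bfc4ae744b2353e7bdfef4e894cd2ba46ccffce72a9bbd5a6449afeac9a3368c0105afffaa44fd22e2299200fe5da162a4521a0053f800000000362c509))
noncomputable def tJ : Tr := (.leaf (nat_lit 0x8083225000250301802400601280433201000000028130210127113001101310071002001007000666660000))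
noncomputable def tQ : Tr := (.leaf (nat_lit 0x0))
noncomputable def tR : TC.WTr := r0
def hl : List ℕ := [4, 5, 6, 6, 5, 7, 8]
def B : List (List ℕ) := [[0, 1], [1, 0], [2, 3], [3, 2], [4, 4], [5, 6], [6, 5], [7, 7], [8, 8], [7, 8, 7, 8], [7, 8, 7, 8], [5, 5, 5], [6, 4, 5, 7], [4, 6, 4, 6, 8], [4, 5, 4, 5, 4, 5, 4, 5], [4, 5, 4, 6, 4, 5, 4, 6, 4, 5, 4, 6], [4, 6, 4, 6, 4, 6, 4, 6], [0, 0, 0, 0], [2, 2, 2, 2, 2, 2], [3, 1, 2, 0, 0, 4], [3, 3, 6], [0, 2, 0, 2, 0, 2, 0, 2], [0, 2, 1, 3, 0, 2, 1, 3, 0, 2, 1, 3, 0, 2, 1, 3, 0, 2, 1, 3, 0, 2, 1, 3], [0, 3, 0, 3, 0, 3, 0, 3], [2, 7, 3, 4], [0, 4, 1, 8, 7], [1, 3, 1, 8, 6]]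
def subs : List (List ℕ) := [[4], [5], [6], [7], [8]]
def ex : List (List ℕ) := []
def inv (x : ℕ) : ℕ := [1, 0, 3, 2, 4, 6, 5, 7, 8].getD x 0
noncomputable def rS : ℕ → ℕ := rowOf tS (nat_lit 8) (nat_lit 255) (nat_lit 70) (nat_lit 1180591620717411303423)
noncomputable def rJ : ℕ → ℕ := rowOf tJ (nat_lit 8) (nat_lit 255) (nat_lit 44) (nat_lit 17592186044415)
noncomputable def C : TC.Cfg where
  S := look rS (nat_lit 7) (nat_lit 127)
  J := look rJ (nat_lit 4) (nat_lit 15)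
  Q := lookQ tQ (nat_lit 8) (nat_lit 1) (nat_lit 1)
  R := tR.get
  hl := fun x => hl.contains x
  n := (nat_lit 8)
  M := (nat_lit 8)
  top := (nat_lit 96)
  nl := (nat_lit 9)
  need := (nat_lit 9)
  nr := (nat_lit 6)
theorem k0 : TC.chkRange C 0 1 = true := by decide +kernel
theorem rows0 : ∀ c < (0 + 1) * 64, c < C.M → TC.chkRow C c = true :=
  TC.rows_step (TC.rows_zero C) k0
theorem main {G : Type*} [Group G] (g : ℕ → G) (hB : ∀ r ∈ B, ev g r = 1) (H : Subgroup G)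
    (hH : ∀ w ∈ subs, ev g w ∈ H) :
    H.relIndex (Subgroup.closure (g '' {x | x < 9})) ≠ 0 ∧
      H.relIndex (Subgroup.closure (g '' {x | x < 9})) ≤ 8 :=
  TC.index_le C B subs ex inv hl tR.hint rfl (by decide +kernel) (by decide +kernel)
    (TC.rows_done rows0 (by decide +kernel)) g hB H hH
end H0.TCWD40
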